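import Mathlib.AlgebraicTopology.SimplicialObject.Coskeletal
import Mathlib.AlgebraicTopology.SimplicialSet.Homotopy
import Mathlib.AlgebraicTopology.SimplicialSet.CategoryWithFibrations
import Mathlib.AlgebraicTopology.SimplicialSet.Skeleton
import Mathlib.AlgebraicTopology.SimplicialSet.Coskeletal

/-!
# Coskeletal simplicial sets and non-degenerate simplices
-/

set_option autoImplicit false

universe u

open CategoryTheory Limits Opposite Simplicial MonoidalCategory

namespace GrothLib.SSetCosk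

/-- A homotopy from a morphism out of the cylinder. -/
theorem nonempty_homotopy {X Y : SSet.{u}} (f g : X ⟶ Y) (H : X ⊗ Δ[1] ⟶ Y)
    (h₀ : SSet.ι₀ ≫ H = f) (h₁ : SSet.ι₁ ≫ H = g) : Nonempty (SSet.Homotopy f g) :=
  ⟨{ h := H, h₀ := h₀, h₁ := h₁
     rel := by
       ext m ⟨⟨x, hx⟩, t⟩
       simp at hx }⟩

section

variable {U G : SSet.{u}} {n : ℕ}

/-- Maps into a coskeletal simplicial set are determined in low dimensions. -/
theorem hom_ext [SimplicialObject.IsCoskeletal U n] {γ₁ γ₂ : G ⟶ U}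
    (h : ∀ i : ℕ, i ≤ n → ∀ x : G.obj (op ⦋i⦌), γ₁.app (op ⦋i⦌) x = γ₂.app (op ⦋i⦌) x) : γ₁ = γ₂ := by
  apply Functor.hom_ext_of_isRightKanExtension U (𝟙 ((SimplexCategory.Truncated.inclusion n).op ⋙ U))
  simp only [Category.comp_id]
  ext ⟨⟨m, hm⟩⟩ x
  exact h m.len hm x

/-- Maps into a coskeletal simplicial set can be prescribed in low dimensions. -/
theorem exists_hom [SimplicialObject.IsCoskeletal U n]
    (φ : ∀ Δ : SimplexCategory, Δ.len ≤ n → (G.obj (op Δ) → U.obj (op Δ)))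
    (hφ : ∀ (Δ Δ' : SimplexCategory) (h : Δ.len ≤ n) (h' : Δ'.len ≤ n) (α : Δ ⟶ Δ') (x : G.obj (op Δ')),
      φ Δ h (G.map α.op x) = U.map α.op (φ Δ' h' x)) :
    ∃ γ : G ⟶ U, ∀ (Δ : SimplexCategory) (h : Δ.len ≤ n) (x : G.obj (op Δ)), γ.app (op Δ) x = φ Δ h x := by
  let β : (SimplexCategory.Truncated.inclusion n).op ⋙ G ⟶ (SimplexCategory.Truncated.inclusion n).op ⋙ U :=
    { app := fun Δ => ↾(φ Δ.unop.obj Δ.unop.property)
      naturality := fun Δ Δ' f => by
        ext x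
        exact hφ Δ'.unop.obj Δ.unop.obj Δ'.unop.property Δ.unop.property f.unop.hom x }
  refine ⟨Functor.liftOfIsRightKanExtension U (𝟙 _) G β, fun Δ h x => ?_⟩
  have := Functor.liftOfIsRightKanExtension_fac U
    (𝟙 ((SimplexCategory.Truncated.inclusion n).op ⋙ U)) G β
  rw [Category.comp_id] at this
  exact ConcreteCategory.congr_hom (NatTrans.congr_app this (op ⟨Δ, h⟩)) x

theorem isCoskeletal_of (U : SSet.{u}) (n : ℕ)
    (hex : ∀ (G : SSet.{u}) (β : (SimplexCategory.Truncated.inclusion n).op ⋙ G ⟶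
      (SimplexCategory.Truncated.inclusion n).op ⋙ U), ∃ γ : G ⟶ U, Functor.whiskerLeft _ γ = β)
    (huniq : ∀ (G : SSet.{u}) (γ₁ γ₂ : G ⟶ U),
      Functor.whiskerLeft (SimplexCategory.Truncated.inclusion n).op γ₁ = Functor.whiskerLeft _ γ₂ → γ₁ = γ₂) :
    SimplicialObject.IsCoskeletal U n := by
  choose γ hγ using hex
  refine ⟨⟨⟨IsTerminal.ofUniqueHom (fun Z => CostructuredArrow.homMk (γ Z.left Z.hom) ?_) fun Z m => ?_⟩⟩⟩
  · simp [Functor.RightExtension.mk, hγ]
  · refine CostructuredArrow.hom_ext _ _ (huniq _ _ _ ?_)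
    have := CostructuredArrow.w m
    simp [Functor.RightExtension.mk] at this
    simp [hγ, this]

end

/-- Restricting a map between simplices of dimension `≤ n` to low dimensions. -/
theorem homotopy_of_eq_below {U V : SSet.{u}} (f₀ f₁ : V ⟶ U) (n : ℕ) [SimplicialObject.IsCoskeletal U n]
    (h : ∀ i : ℕ, i < n → f₀.app (op ⦋i⦌) = f₁.app (op ⦋i⦌)) : Nonempty (SSet.Homotopy f₀ f₁) := by
  classical
  let sel : ∀ (Δ : SimplexCategory), (V ⊗ Δ[1]).obj (op Δ) → U.obj (op Δ) := fun Δ p =>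
    if ∀ k : Fin (Δ.len + 1), (SSet.stdSimplex.objEquiv p.2).toOrderHom k = (1 : Fin 2) then f₁.app (op Δ) p.1
    else f₀.app (op Δ) p.1
  have hlow : ∀ (Δ : SimplexCategory) (p : (V ⊗ Δ[1]).obj (op Δ)), Δ.len < n →
      sel Δ p = f₀.app (op Δ) p.1 := by
    intro Δ p hlt
    induction Δ using SimplexCategory.rec with | _ m
    simp only [sel]
    split_ifs
    · rw [h m hlt]
    · rfl
  have hnat : ∀ (Δ Δ' : SimplexCategory) (_ : Δ.len ≤ n) (_ : Δ'.len ≤ n) (α : Δ ⟶ Δ')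
      (p : (V ⊗ Δ[1]).obj (op Δ')), sel Δ ((V ⊗ Δ[1]).map α.op p) = U.map α.op (sel Δ' p) := by
    intro Δ Δ' hΔ hΔ' α p
    by_cases hα : Function.Surjective α.toOrderHom
    · have : (∀ k : Fin (Δ.len + 1),
          (SSet.stdSimplex.objEquiv ((V ⊗ Δ[1]).map α.op p).2).toOrderHom k = (1 : Fin 2)) ↔
          ∀ k : Fin (Δ'.len + 1), (SSet.stdSimplex.objEquiv p.2).toOrderHom k = (1 : Fin 2) := by
        refine ⟨fun hk k => ?_, fun hk k => hk _⟩
        obtain ⟨j, rfl⟩ := hα k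
        exact hk j
      simp only [sel, this]
      split_ifs
      · exact NatTrans.naturality_apply f₁ α.op p.1
      · exact NatTrans.naturality_apply f₀ α.op p.1
    · -- `α` factors through a simplex of dimension `< n`
      have e1 : sel Δ' p = f₀.app (op Δ') p.1 ∨ sel Δ' p = f₁.app (op Δ') p.1 := by
        simp only [sel]; split_ifs <;> simp
      have e2 : sel Δ ((V ⊗ Δ[1]).map α.op p) = f₀.app (op Δ) (V.map α.op p.1) ∨
          sel Δ ((V ⊗ Δ[1]).map α.op p) = f₁.app (op Δ) (V.map α.op p.1) := by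
        simp only [sel]; split_ifs
        · exact Or.inr rfl
        · exact Or.inl rfl
      have key : f₀.app (op Δ) (V.map α.op p.1) = f₁.app (op Δ) (V.map α.op p.1) := by
        induction Δ using SimplexCategory.rec with | _ a
        induction Δ' using SimplexCategory.rec with | _ b
        obtain _ | b := b
        · exact (hα fun k => ⟨0, Subsingleton.elim (α := Fin 1) _ _⟩).elim
        obtain ⟨i, q, rfl⟩ := SimplexCategory.eq_comp_δ_of_not_surjective α hα
        rw [op_comp, Functor.map_comp, ConcreteCategory.comp_apply, NatTrans.naturality_apply f₀ q.op,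
          NatTrans.naturality_apply f₁ q.op, h b (by simp at hΔ'; omega)]
      rcases e1 with e1 | e1 <;> rcases e2 with e2 | e2 <;> rw [e1, e2] <;>
        simp only [← NatTrans.naturality_apply] <;> first | rfl | exact key | exact key.symm
  obtain ⟨H, hH⟩ := exists_hom (U := U) (G := V ⊗ Δ[1]) (n := n) (fun Δ _ p => sel Δ p) hnat
  refine nonempty_homotopy f₀ f₁ H (hom_ext (n := n) fun i hi x => ?_) (hom_ext (n := n) fun i hi x => ?_)
  · change H.app _ (SSet.ι₀.app _ x) = _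
    rw [hH _ hi]
    simp only [sel]
    rw [if_neg]
    · rfl
    · exact fun hk => absurd (hk 0) (by simp)
  · change H.app _ (SSet.ι₁.app _ x) = _
    rw [hH _ hi]
    simp only [sel]
    rw [if_pos]
    · rfl
    · exact fun k => rfl

theorem isCoskeletal_stdSimplex (m : ℕ) :
    SimplicialObject.IsCoskeletal (Δ[m] : SSet.{u}) 1 := by
  refine isCoskeletal_of _ _ (fun G β => ?_) (fun G γ₁ γ₂ e => ?_)
  · let v : G.obj (op ⦋0⦌) → Fin (m + 1) := fun x =>
      (fun z : Δ[m] _⦋0⦌ => z 0) (β.app (op ⟨⦋0⦌, by simp⟩) x)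
    have hedge : ∀ (y : G.obj (op ⦋1⦌)) (k : Fin 2),
        v (G.map (⦋0⦌.const ⦋1⦌ k).op y) = (fun z : Δ[m] _⦋1⦌ => z k) (β.app (op ⟨⦋1⦌, by simp⟩) y) := fun y k => by
      have := NatTrans.naturality_apply β
        (ObjectProperty.homMk (⦋0⦌.const ⦋1⦌ k) :
          (⟨⦋0⦌, by simp⟩ : SimplexCategory.Truncated 1) ⟶ ⟨⦋1⦌, by simp⟩).op y
      exact congrArg (fun z : Δ[m] _⦋0⦌ => z 0) this
    have hmono : ∀ (Δ : SimplexCategory) (g : G.obj (op Δ)),
        Monotone (fun i : Fin (Δ.len + 1) => v (G.map (⦋0⦌.const Δ i).op g)) := by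
      intro Δ g i j hij
      have e : ∀ k : Fin 2, v (G.map (⦋0⦌.const ⦋1⦌ k).op (G.map (SimplexCategory.mkOfLe i j hij).op g)) =
          v (G.map (⦋0⦌.const Δ ((SimplexCategory.mkOfLe i j hij).toOrderHom k)).op g) := fun k => by
        rw [← ConcreteCategory.comp_apply, ← G.map_comp, ← op_comp, SimplexCategory.const_comp]
      change v _ ≤ v _
      have h0 := (e 0).symm.trans (hedge (G.map (SimplexCategory.mkOfLe i j hij).op g) 0)
      have h1 := (e 1).symm.trans (hedge (G.map (SimplexCategory.mkOfLe i j hij).op g) 1)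
      exact (le_of_eq h0).trans ((SSet.stdSimplex.monotone_apply _ (Fin.zero_le _)).trans (le_of_eq h1.symm))
    let γ : G ⟶ Δ[m] :=
      { app := fun Δ => ↾fun g => SSet.stdSimplex.objMk ⟨_, hmono Δ.unop g⟩
        naturality := fun Δ Δ' f => by
          ext g
          apply SSet.stdSimplex.objEquiv.injective
          ext i : 3
          change v (G.map (⦋0⦌.const Δ'.unop i).op (G.map f g)) = v (G.map (⦋0⦌.const Δ.unop _).op g)
          rw [← ConcreteCategory.comp_apply, ← G.map_comp]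
          rfl }
    refine ⟨γ, ?_⟩
    ext ⟨⟨Δ, hΔ⟩⟩ g
    apply SSet.stdSimplex.objEquiv.injective
    ext i : 3
    change v (G.map (⦋0⦌.const Δ i).op g) = _
    have := NatTrans.naturality_apply β
      (ObjectProperty.homMk (⦋0⦌.const Δ i) :
        (⟨⦋0⦌, by simp⟩ : SimplexCategory.Truncated 1) ⟶ ⟨Δ, hΔ⟩).op g
    exact congrArg (fun z : Δ[m] _⦋0⦌ => z 0) this
  · ext ⟨Δ⟩ g
    apply SSet.stdSimplex.objEquiv.injective
    ext i : 3
    have h0 := ConcreteCategory.congr_hom (NatTrans.congr_app e (op ⟨⦋0⦌, by simp⟩)) (G.map (⦋0⦌.const Δ i).op g)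
    simp only [Functor.whiskerLeft_app] at h0
    have h1 := congrArg (fun z : Δ[m] _⦋0⦌ => z 0)
      ((NatTrans.naturality_apply γ₁ (⦋0⦌.const Δ i).op g).symm.trans
        (h0.trans (NatTrans.naturality_apply γ₂ (⦋0⦌.const Δ i).op g)))
    exact h1

section NonDegenerate

variable {U V : SSet.{u}} (f : U ⟶ V)

theorem injective_of_nonDegenerate
    (ha : ∀ (n : ℕ) (x : U.obj (op ⦋n⦌)), x ∈ U.nonDegenerate n → f.app (op ⦋n⦌) x ∈ V.nonDegenerate n)
    (hb : ∀ n : ℕ, Set.InjOn (f.app (op ⦋n⦌)) (U.nonDegenerate n)) (n : ℕ) :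
    Function.Injective (f.app (op ⦋n⦌)) := by
  intro x x' h
  obtain ⟨m, e, he, y, rfl⟩ := U.exists_nonDegenerate x
  obtain ⟨m', e', he', y', rfl⟩ := U.exists_nonDegenerate x'
  rw [NatTrans.naturality_apply f e.op, NatTrans.naturality_apply f e'.op] at h
  obtain rfl := V.unique_nonDegenerate_dim _ e ⟨_, ha _ _ y.2⟩ rfl e' ⟨_, ha _ _ y'.2⟩ h
  have h2 := V.unique_nonDegenerate_map _ e ⟨_, ha _ _ y.2⟩ rfl e' ⟨_, ha _ _ y'.2⟩ h
  have h3 := congrArg Subtype.val (V.unique_nonDegenerate_simplex _ e ⟨_, ha _ _ y.2⟩ rfl e' ⟨_, ha _ _ y'.2⟩ h)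
  rw [h2, hb _ y.2 y'.2 h3]

theorem surjective_of_nonDegenerate
    (hb : ∀ n : ℕ, Set.SurjOn (f.app (op ⦋n⦌)) (U.nonDegenerate n) (V.nonDegenerate n)) (n : ℕ) :
    Function.Surjective (f.app (op ⦋n⦌)) := by
  intro x
  obtain ⟨m, e, he, y, rfl⟩ := V.exists_nonDegenerate x
  obtain ⟨z, -, hz⟩ := hb m y.2
  exact ⟨U.map e.op z, by rw [NatTrans.naturality_apply f e.op, hz]⟩

end NonDegenerate

end GrothLib.SSetCosk
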