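import Groth.Agent.Lib.SSetCosk.Trivial
import Mathlib.AlgebraicTopology.CechNerve
import Mathlib.CategoryTheory.Limits.Types.Limits

/-!
# The Čech nerve of a surjection
-/

set_option autoImplicit false

universe u

open CategoryTheory Limits Opposite Simplicial

namespace GrothLib.SSetCosk

theorem rlp_augmentedCechNerve {A B : Type u} (f : A ⟶ B) (hf : Function.Surjective f) :
    SSet.modelCategoryQuillen.I.rlp (Arrow.mk f).augmentedCechNerve.hom := by
  rintro _ _ _ ⟨m⟩
  refine ⟨fun {a b} sq => ?_⟩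
  let X : SSet.{u} := (Arrow.mk f).cechNerve
  change (SSet.boundary m : SSet.{u}) ⟶ X at a
  have ext : ∀ {ι : Type} (p q : widePullback.{0} B (fun _ : ι => A) fun _ => f),
      WidePullback.base (fun _ : ι => f) p = WidePullback.base (fun _ : ι => f) q →
      (∀ i, WidePullback.π (fun _ : ι => f) i p = WidePullback.π (fun _ : ι => f) i q) → p = q := by
    intro ι p q hb hp
    refine Types.limit_ext _ _ _ (fun j => ?_)
    rcases j with _ | i
    · exact hb
    · exact hp i
  let β : B := SSet.yonedaEquiv b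
  have hb : ∀ (Δ : SimplexCategoryᵒᵖ) (s : (Δ[m] : SSet.{u}).obj Δ), b.app Δ s = β := by
    intro Δ s
    have h := NatTrans.naturality_apply b (SSet.stdSimplex.objEquiv s).op
      (SSet.stdSimplex.objEquiv.symm (𝟙 ⦋m⦌))
    have e : (Δ[m] : SSet.{u}).map (SSet.stdSimplex.objEquiv s).op (SSet.stdSimplex.objEquiv.symm (𝟙 ⦋m⦌)) = s := by
      rw [SSet.stdSimplex.map_objEquiv_symm]
      simp
    rw [e] at h
    exact h
  -- the vertices
  obtain ⟨v, hv, hva⟩ : ∃ v : Fin (m + 1) → A, (∀ k, f (v k) = β) ∧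
      ∀ (k : Fin (m + 1)) (z : (SSet.boundary m : SSet.{u}).obj (op ⦋0⦌)),
        (z.1 : Δ[m] _⦋0⦌) 0 = k → WidePullback.π (fun _ : Fin (0 + 1) => f) 0 (a.app (op ⦋0⦌) z) = v k := by
    rcases Nat.eq_zero_or_pos m with rfl | hm
    · obtain ⟨x, hx⟩ := hf β
      refine ⟨fun _ => x, fun _ => hx, fun k z _ => ?_⟩
      have := z.2
      simp at this
    · let z₀ : Fin (m + 1) → (SSet.boundary m : SSet.{u}).obj (op ⦋0⦌) := fun k =>
        ⟨SSet.stdSimplex.objEquiv.symm (⦋0⦌.const ⦋m⦌ k), by rw [SSet.boundary_obj_eq_univ 0 m hm]; trivial⟩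
      refine ⟨fun k => WidePullback.π (fun _ : Fin (0 + 1) => f) 0 (a.app (op ⦋0⦌) (z₀ k)), fun k => ?_,
        fun k z hz => ?_⟩
      · rw [← ConcreteCategory.comp_apply, WidePullback.π_arrow]
        exact (ConcreteCategory.congr_hom (NatTrans.congr_app sq.w (op ⦋0⦌)) (z₀ k)).trans (hb _ _)
      · have : z = z₀ k := by
          refine Subtype.ext (SSet.stdSimplex.ext _ _ fun i => ?_)
          rw [Subsingleton.elim (α := Fin 1) i 0, hz]
          rfl
        rw [this]
  let el : X.obj (op ⦋m⦌) :=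
    WidePullback.lift (↾fun _ : PUnit.{u + 1} => β) (fun i : Fin (m + 1) => ↾fun _ => v i)
      (fun i => by ext; exact hv i) PUnit.unit
  let lw := WidePullback.lift (arrows := fun _ : Fin (m + 1) => f) (↾fun _ : PUnit.{u + 1} => β)
    (fun i : Fin (m + 1) => ↾fun _ => v i) (fun i => by ext; exact hv i)
  have hπ : ∀ i : Fin (m + 1), WidePullback.π (fun _ : Fin (m + 1) => f) i el = v i := fun i => by
    have h : lw ≫ WidePullback.π (fun _ : Fin (m + 1) => f) i = ↾fun _ => v i := WidePullback.lift_π _ _ _ _ i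
    exact ConcreteCategory.congr_hom h PUnit.unit
  have hbase : WidePullback.base (fun _ : Fin (m + 1) => f) el = β := by
    have h : lw ≫ WidePullback.base (fun _ : Fin (m + 1) => f) = ↾fun _ => β := WidePullback.lift_base _ _ _ _
    exact ConcreteCategory.congr_hom h PUnit.unit
  have hmap : ∀ {d e : SimplexCategory} (α : d ⟶ e) (x : X.obj (op e)) (i : Fin (d.len + 1)),
      WidePullback.π (fun _ : Fin (d.len + 1) => f) i (X.map α.op x) =
        WidePullback.π (fun _ : Fin (e.len + 1) => f) (α.toOrderHom i) x := fun {d e} α x i => by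
    have h : X.map α.op ≫ WidePullback.π (fun _ : Fin (d.len + 1) => f) i =
        WidePullback.π (fun _ : Fin (e.len + 1) => f) (α.toOrderHom i) := WidePullback.lift_π _ _ _ _ i
    exact ConcreteCategory.congr_hom h x
  have hmapb : ∀ {d e : SimplexCategory} (α : d ⟶ e) (x : X.obj (op e)),
      WidePullback.base (fun _ : Fin (d.len + 1) => f) (X.map α.op x) =
        WidePullback.base (fun _ : Fin (e.len + 1) => f) x := fun {d e} α x => by
    have h : X.map α.op ≫ WidePullback.base (fun _ : Fin (d.len + 1) => f) =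
        WidePullback.base (fun _ : Fin (e.len + 1) => f) := WidePullback.lift_base _ _ _ _
    exact ConcreteCategory.congr_hom h x
  refine CommSq.HasLift.mk' ⟨SSet.yonedaEquiv.symm el, ?_, ?_⟩
  · ext ⟨Δ⟩ y
    induction Δ using SimplexCategory.rec with | _ d
    refine ext _ _ ?_ (fun i => ?_)
    · refine (hmapb _ el).trans (hbase.trans ?_)
      exact (hb _ _).symm.trans (ConcreteCategory.congr_hom (NatTrans.congr_app sq.w (op ⦋d⦌)) y).symm
    · refine (hmap _ el i).trans ((hπ _).trans ?_)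
      have h := hmap (⦋0⦌.const ⦋d⦌ i) (a.app (op ⦋d⦌) y) 0
      rw [← NatTrans.naturality_apply a (⦋0⦌.const ⦋d⦌ i).op] at h
      refine Eq.trans ?_ h
      exact (hva _ ((SSet.boundary m : SSet.{u}).map (⦋0⦌.const ⦋d⦌ i).op y) rfl).symm
  · ext ⟨Δ⟩ s
    induction Δ using SimplexCategory.rec with | _ d
    exact ((hmapb _ el).trans hbase).trans (hb _ s).symm

end GrothLib.SSetCosk
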