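import Groth.Agent.Lib.SSetCosk.Basic

/-!
# The skeleton adjunction
-/

set_option autoImplicit false

universe u

open CategoryTheory Limits Opposite Simplicial

namespace GrothLib.SSetCosk

theorem hasDimensionLT_sk (m : ℕ) (U : SSet.Truncated.{u} m) :
    ((SSet.Truncated.sk m).obj U).HasDimensionLT (m + 1) := by
  let X : SSet.{u} := (SSet.Truncated.sk m).obj U
  let A : X.Subcomplex := X.skeleton (m + 1)
  have hmem : ∀ (Δ : SimplexCategory), Δ.len ≤ m → ∀ x : X.obj (op Δ), x ∈ A.obj (op Δ) := fun Δ hΔ x => by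
    induction Δ using SimplexCategory.rec with | _ d
    exact X.mem_skeleton x (by simp at hΔ; omega)
  let η : U ⟶ (SSet.truncation m).obj (A : SSet.{u}) :=
    { app := fun Δ => ↾fun u =>
        (⟨((SSet.skAdj m).unit.app U).app Δ u, hmem _ Δ.unop.property _⟩ : A.obj (op Δ.unop.obj))
      naturality := fun Δ Δ' α => by
        ext u
        apply Subtype.ext
        exact NatTrans.naturality_apply ((SSet.skAdj m).unit.app U) α u }
  let r : X ⟶ (A : SSet.{u}) := ((SSet.skAdj m).homEquiv U _).symm η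
  have hr : r ≫ A.ι = 𝟙 X := by
    apply ((SSet.skAdj m).homEquiv U X).injective
    rw [Adjunction.homEquiv_naturality_right, Equiv.apply_symm_apply, Adjunction.homEquiv_unit,
      CategoryTheory.Functor.map_id]
    refine Eq.trans ?_ (Category.comp_id _).symm
    rfl
  refine ⟨fun d hd => Set.eq_univ_of_forall fun x => ?_⟩
  by_contra hx
  have hxA : x ∈ A.obj (op ⦋d⦌) := by
    have e := ConcreteCategory.congr_hom (NatTrans.congr_app hr (op ⦋d⦌)) x
    rw [← show ((r.app (op ⦋d⦌) x).1) = x from e]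
    exact (r.app (op ⦋d⦌) x).2
  have := (X.mem_skeleton_obj_iff_of_nonDegenerate ⟨x, hx⟩ (m + 1)).1 hxA
  omega

theorem mono_counit_and_range (U : SSet.{u}) (n : ℕ) :
    Mono ((SSet.skAdj n).counit.app U) ∧ SSet.Subcomplex.range ((SSet.skAdj n).counit.app U) = U.skeleton (n + 1) := by
  let X : SSet.{u} := (SSet.Truncated.sk n).obj ((SSet.truncation n).obj U)
  let c : X ⟶ U := (SSet.skAdj n).counit.app U
  haveI : X.HasDimensionLT (n + 1) := hasDimensionLT_sk n _
  have hiso : IsIso ((SSet.truncation n).map c) := by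
    have t := (SSet.skAdj n).right_triangle_components U
    have : IsIso ((SSet.skAdj n).unit.app ((SSet.truncation n).obj U)) := inferInstance
    have e : (SSet.truncation n).map c = inv ((SSet.skAdj n).unit.app ((SSet.truncation n).obj U)) := by
      apply IsIso.eq_inv_of_hom_inv_id
      exact t
    rw [e]; infer_instance
  have hlow : ∀ d : ℕ, d ≤ n → Function.Bijective (c.app (op ⦋d⦌)) := fun d hd =>
    (isIso_iff_bijective _).1 ((NatTrans.isIso_iff_isIso_app _).1 hiso (op ⟨⦋d⦌, hd⟩))
  have hnd : ∀ (j : ℕ) (z : X.obj (op ⦋j⦌)), z ∈ X.nonDegenerate j → j ≤ n := fun j z hz => by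
    by_contra hj
    simp [X.nonDegenerate_eq_empty_of_hasDimensionLT (n + 1) j (by omega)] at hz
  have ha : ∀ (j : ℕ) (z : X.obj (op ⦋j⦌)), z ∈ X.nonDegenerate j → c.app (op ⦋j⦌) z ∈ U.nonDegenerate j := by
    intro j z hz
    rw [SSet.mem_nonDegenerate_iff_notMem_degenerate]
    intro hdeg
    obtain ⟨i, hi, e, he, y, hy⟩ := (U.mem_degenerate_iff _).1 hdeg
    obtain ⟨y', rfl⟩ := (hlow i (by have := hnd j z hz; omega)).2 y
    have : X.map e.op y' = z :=
      (hlow j (hnd j z hz)).1 ((NatTrans.naturality_apply c e.op y').trans hy)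
    exact (X.mem_nonDegenerate_iff_notMem_degenerate z).1 hz
      ((X.mem_degenerate_iff z).2 ⟨i, hi, e, he, y', this⟩)
  refine ⟨?_, ?_⟩
  · have : ∀ Δ : SimplexCategoryᵒᵖ, Mono (c.app Δ) := fun ⟨Δ⟩ => by
      induction Δ using SimplexCategory.rec with | _ d
      exact (mono_iff_injective _).2
        (injective_of_nonDegenerate c ha (fun j => fun a ha' b hb' h => (hlow j (hnd j a ha')).1 h) d)
    exact NatTrans.mono_of_mono_app c
  · refine le_antisymm ?_ ?_
    · rintro ⟨Δ⟩ y ⟨x, rfl⟩
      induction Δ using SimplexCategory.rec with | _ d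
      obtain ⟨j, e, -, z, rfl⟩ := X.exists_nonDegenerate x
      change c.app _ (X.map e.op z.1) ∈ _
      rw [NatTrans.naturality_apply c e.op]
      exact (U.skeleton (n + 1)).map e.op (U.mem_skeleton _ (by have := hnd j _ z.2; omega))
    · rw [SSet.Subcomplex.le_iff_contains_nonDegenerate]
      intro d y hy
      have hd : d ≤ n := Nat.lt_succ_iff.1 ((U.mem_skeleton_obj_iff_of_nonDegenerate y (n + 1)).1 hy)
      obtain ⟨x, hx⟩ := (hlow d hd).2 y.1
      exact ⟨x, hx⟩

end GrothLib.SSetCosk
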