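import Groth.Agent.Lib.SSetCosk.Basic

/-!
# Trivial Kan fibrations
-/

set_option autoImplicit false

universe u

open CategoryTheory Limits Opposite Simplicial MonoidalCategory CartesianMonoidalCategory

namespace GrothLib.SSetCosk

theorem hom_ext_nonDegenerate {X Y : SSet.{u}} {a b : X ⟶ Y}
    (h : ∀ (j : ℕ) (z : X.nonDegenerate j), a.app (op ⦋j⦌) z.1 = b.app (op ⦋j⦌) z.1) : a = b := by
  ext ⟨Δ⟩ x
  induction Δ using SimplexCategory.rec with | _ d
  obtain ⟨j, e, -, z, rfl⟩ := X.exists_nonDegenerate x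
  exact (NatTrans.naturality_apply a e.op z.1).trans
    ((congrArg _ (h j z)).trans (NatTrans.naturality_apply b e.op z.1).symm)

theorem rlp_of_bijective_lt {U V : SSet.{u}} (f : V ⟶ U) (n : ℕ)
    [SimplicialObject.IsCoskeletal U n] [SimplicialObject.IsCoskeletal V n]
    (h1 : ∀ i : ℕ, i < n → Function.Bijective (f.app (op ⦋i⦌))) (h2 : Function.Surjective (f.app (op ⦋n⦌))) :
    SSet.modelCategoryQuillen.I.rlp f := by
  rintro _ _ _ ⟨m⟩
  refine ⟨fun {a b} sq => ?_⟩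
  by_cases hm : m ≤ n
  · obtain ⟨v, hv⟩ : ∃ v, f.app (op ⦋m⦌) v = SSet.yonedaEquiv b := by
      rcases hm.lt_or_eq with hlt | rfl
      · exact (h1 m hlt).2 _
      · exact h2 _
    have hl : SSet.yonedaEquiv.symm v ≫ f = b := by
      rw [SSet.yonedaEquiv_symm_comp, hv, Equiv.symm_apply_apply]
    refine CommSq.HasLift.mk' ⟨SSet.yonedaEquiv.symm v, hom_ext_nonDegenerate fun j z => ?_, hl⟩
    have hj : j < m := by
      by_contra hj
      have := z.2
      simp [SSet.nonDegenerate_eq_empty_of_hasDimensionLT _ m j (by omega)] at this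
    apply (h1 j (by omega)).1
    have e1 := ConcreteCategory.congr_hom (NatTrans.congr_app sq.w (op ⦋j⦌)) z.1
    have e2 := ConcreteCategory.congr_hom (NatTrans.congr_app hl (op ⦋j⦌)) ((SSet.boundary m).ι.app _ z.1)
    exact e2.trans e1.symm
  · have hmem : ∀ (Δ : SimplexCategory), Δ.len ≤ n → ∀ x : (Δ[m] : SSet.{u}).obj (op Δ),
        x ∈ (SSet.boundary m).obj (op Δ) := fun Δ hΔ x => by
      induction Δ using SimplexCategory.rec with | _ d
      rw [SSet.boundary_obj_eq_univ d m (by simp at hΔ; omega)]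
      trivial
    obtain ⟨l, hl⟩ := exists_hom (U := V) (G := Δ[m]) (n := n)
      (fun Δ hΔ x => a.app (op Δ) ⟨x, hmem Δ hΔ x⟩)
      (fun Δ Δ' hΔ hΔ' α x => by
        rw [← NatTrans.naturality_apply a α.op]
        rfl)
    refine CommSq.HasLift.mk' ⟨l, hom_ext (n := n) fun i hi x => ?_, hom_ext (n := n) fun i hi x => ?_⟩
    · exact hl ⦋i⦌ hi x.1
    · have e1 := ConcreteCategory.congr_hom (NatTrans.congr_app sq.w (op ⦋i⦌)) ⟨x, hmem ⦋i⦌ hi x⟩
      change f.app _ (l.app _ x) = _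
      rw [hl ⦋i⦌ hi x]
      exact e1

/-- The two ends of the cylinder. -/
noncomputable abbrev ends (X : SSet.{u}) : (X ⊗ Δ[1] : SSet.{u}).Subcomplex :=
  SSet.Subcomplex.range (SSet.ι₀ (X := X)) ⊔ SSet.Subcomplex.range SSet.ι₁

theorem ends_cases {X : SSet.{u}} {m : SimplexCategoryᵒᵖ} {p : (X ⊗ Δ[1] : SSet.{u}).obj m}
    (h : p ∈ (ends X).obj m) : p = SSet.ι₀.app m p.1 ∨ p = SSet.ι₁.app m p.1 := by
  rcases h with ⟨x, rfl⟩ | ⟨x, rfl⟩
  · exact Or.inl rfl
  · exact Or.inr rfl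

theorem exists_ends_desc {X Y : SSet.{u}} (a b : X ⟶ Y) :
    ∃ φ : (ends X : SSet.{u}) ⟶ Y,
      (∀ (m : SimplexCategoryᵒᵖ) (p : (ends X).obj m), p.1 = SSet.ι₀.app m p.1.1 → φ.app m p = a.app m p.1.1) ∧
      (∀ (m : SimplexCategoryᵒᵖ) (p : (ends X).obj m), p.1 = SSet.ι₁.app m p.1.1 → φ.app m p = b.app m p.1.1) := by
  classical
  let is1 : ∀ (m : SimplexCategoryᵒᵖ), (X ⊗ Δ[1] : SSet.{u}).obj m → Prop := fun m p =>
    ∀ k : Fin (m.unop.len + 1), (SSet.stdSimplex.objEquiv p.2).toOrderHom k = (1 : Fin 2)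
  have n0 : ∀ (m : SimplexCategoryᵒᵖ) (p : (X ⊗ Δ[1] : SSet.{u}).obj m), p = SSet.ι₀.app m p.1 → ¬ is1 m p := by
    intro m p hp h
    have := h 0
    rw [hp] at this
    exact absurd this (by decide : ¬ ((0 : Fin 2) = 1))
  have n1 : ∀ (m : SimplexCategoryᵒᵖ) (p : (X ⊗ Δ[1] : SSet.{u}).obj m), p = SSet.ι₁.app m p.1 → is1 m p := by
    intro m p hp k
    rw [hp]; rfl
  let φ : (ends X : SSet.{u}) ⟶ Y :=
    { app := fun m => ↾fun p => if is1 m p.1 then b.app m p.1.1 else a.app m p.1.1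
      naturality := fun m m' α => by
        ext ⟨p, hp⟩
        change (if is1 m' ((X ⊗ Δ[1] : SSet.{u}).map α p) then b.app m' (X.map α p.1) else a.app m' (X.map α p.1)) =
          Y.map α (if is1 m p then b.app m p.1 else a.app m p.1)
        rcases ends_cases hp with h0 | h1
        · have h0' : ¬ is1 m' ((X ⊗ Δ[1] : SSet.{u}).map α p) := fun h => by
            have := h 0
            rw [h0] at this
            exact absurd this (by decide : ¬ ((0 : Fin 2) = 1))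
          rw [if_neg h0', if_neg (n0 m p h0)]
          exact NatTrans.naturality_apply a α p.1
        · have h1' : is1 m' ((X ⊗ Δ[1] : SSet.{u}).map α p) := fun k => n1 m p h1 _
          rw [if_pos h1', if_pos (n1 m p h1)]
          exact NatTrans.naturality_apply b α p.1 }
  refine ⟨φ, fun m p hp => ?_, fun m p hp => ?_⟩
  · exact if_neg (n0 m _ hp)
  · exact if_pos (n1 m _ hp)

theorem nonempty_homotopy_over {X Y : SSet.{u}} (f : X ⟶ Y) (hm : (MorphismProperty.monomorphisms SSet.{u}).rlp f)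
    (a b : X ⟶ X) (ha : a ≫ f = f) (hb : b ≫ f = f) : Nonempty (SSet.Homotopy a b) := by
  obtain ⟨φ, h0, h1⟩ := exists_ends_desc a b
  have sq : CommSq φ (ends X).ι f (fst X Δ[1] ≫ f) := ⟨by
    ext m p
    change f.app m (φ.app m p) = f.app m p.1.1
    rcases ends_cases p.2 with h | h
    · rw [h0 m p h]; exact ConcreteCategory.congr_hom (NatTrans.congr_app ha m) _
    · rw [h1 m p h]; exact ConcreteCategory.congr_hom (NatTrans.congr_app hb m) _⟩
  obtain ⟨⟨⟨H, hH, -⟩⟩⟩ := (hm _ (MorphismProperty.monomorphisms.infer_property (ends X).ι)).sq_hasLift sq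
  refine nonempty_homotopy a b H ?_ ?_
  · ext m x
    have e := ConcreteCategory.congr_hom (NatTrans.congr_app hH m) ⟨SSet.ι₀.app m x, Or.inl ⟨x, rfl⟩⟩
    exact e.trans (h0 m _ rfl)
  · ext m x
    have e := ConcreteCategory.congr_hom (NatTrans.congr_app hH m) ⟨SSet.ι₁.app m x, Or.inr ⟨x, rfl⟩⟩
    exact e.trans (h1 m _ rfl)

theorem homotopy_retraction {X Y : SSet.{u}} (f : X ⟶ Y) (hm : (MorphismProperty.monomorphisms SSet.{u}).rlp f)
    (g : Y ⟶ X) (hg : g ≫ f = 𝟙 Y) :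
    Nonempty (SSet.Homotopy (𝟙 X) (f ≫ g)) ∧ Nonempty (SSet.Homotopy (f ≫ g) (𝟙 X)) :=
  ⟨nonempty_homotopy_over f hm _ _ (by simp) (by simp [hg]),
    nonempty_homotopy_over f hm _ _ (by simp [hg]) (by simp)⟩

end GrothLib.SSetCosk
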